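import Groth.Prelude.Def_BigSite
import Mathlib.CategoryTheory.Sites.Limits
import Mathlib.CategoryTheory.Sites.LocallyBijective
import Mathlib.CategoryTheory.Limits.Connected

/-!
Direct image along an almost cocontinuous continuous functor commutes with colimits which send
families of terminal objects to a terminal object.
-/

set_option autoImplicit false

open CategoryTheory CategoryTheory.Limits Opposite

namespace Groth.Agent.Lib.AlmostCocont.Basic

universe wA vA uA v u v' u' vK uK

variable {C : Type u} [Category.{v} C] {D : Type u'} [Category.{v'} D]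
  {J : GrothendieckTopology C} {L : GrothendieckTopology D} (F : C ⥤ D)
  {A : Type uA} [Category.{vA} A] {FA : A → A → Type*} {CA : A → Type wA}
  [∀ M N, FunLike (FA M N) (CA M) (CA N)] [cA : ConcreteCategory.{wA} A FA]

section

variable (hF : BigSite.IsAlmostCocontinuous F J L) {P Q : Dᵒᵖ ⥤ A} (φ : P ⟶ Q)

include hF

omit cA in
theorem mem_of_imp {U : C} {R : Sieve (F.obj U)} (hR : R ∈ L (F.obj U)) (T : Sieve U)
    (h₁ : ∀ V (γ : V ⟶ U), (⊥ : Sieve (F.obj V)) ∈ L (F.obj V) → T γ)
    (h₂ : ∀ V (γ : V ⟶ U), R (F.map γ) → T γ) : T ∈ J U := by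
  obtain ⟨S, hS, hS'⟩ := hF U R hR
  exact J.superset_covering (fun V γ hγ => (hS' γ hγ).elim (h₁ V γ) (h₂ V γ)) hS

theorem isLocallyInjective_whisker [Presheaf.IsLocallyInjective L φ]
    (hP : ∀ W, (⊥ : Sieve W) ∈ L W → Subsingleton (ToType (P.obj (op W)))) :
    Presheaf.IsLocallyInjective J (Functor.whiskerLeft F.op φ) where
  equalizerSieve_mem {X} x y h := by
    refine mem_of_imp F hF (Presheaf.equalizerSieve_mem L φ (X := op (F.obj X.unop)) x y h) _
      (fun V γ hV => ?_) fun V γ hγ => hγ
    have := hP _ hV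
    exact Subsingleton.elim _ _

theorem isLocallySurjective_whisker [Presheaf.IsLocallySurjective L φ]
    (hP : ∀ W, (⊥ : Sieve W) ∈ L W → Nonempty (ToType (P.obj (op W))))
    (hQ : ∀ W, (⊥ : Sieve W) ∈ L W → Subsingleton (ToType (Q.obj (op W)))) :
    Presheaf.IsLocallySurjective J (Functor.whiskerLeft F.op φ) where
  imageSieve_mem {U} s := by
    refine mem_of_imp F hF (Presheaf.imageSieve_mem L φ (U := op (F.obj _)) s) _
      (fun V γ hV => ?_) fun V γ hγ => hγ
    obtain ⟨t⟩ := hP _ hV
    have := hQ _ hV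
    exact ⟨t, Subsingleton.elim _ _⟩

end

variable [hfor : PreservesLimitsOfShape (Discrete PEmpty.{1}) (forget A)]

theorem subsingleton_of_isTerminal {T : A} (hT : IsTerminal T) :
    Subsingleton (ToType T) ∧ Nonempty (ToType T) := by
  let e := Types.isTerminalEquivUnique _ (hT.isTerminalObj (forget A) _)
  exact ⟨⟨fun a b => (@Unique.eq_default _ e a).trans (@Unique.eq_default _ e b).symm⟩,
    ⟨@default _ (@Unique.instInhabited _ e)⟩⟩

variable [J.WEqualsLocallyBijective A] [L.WEqualsLocallyBijective A] [HasSheafify J A]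
  [HasSheafify L A] [F.IsContinuous J L]

include cA hfor in
/-- Direct image along an almost cocontinuous functor commutes with colimits of a shape which
preserves terminal objects. -/
theorem preservesColimitsOfShape (hF : BigSite.IsAlmostCocontinuous F J L) (K : Type uK)
    [Category.{vK} K] [HasColimitsOfShape K A]
    (hK : ∀ (G : K ⥤ A) (c : Cocone G), IsColimit c → (∀ k, Nonempty (IsTerminal (G.obj k))) →
      Nonempty (IsTerminal c.pt)) :
    PreservesColimitsOfShape K (F.sheafPushforwardContinuous A J L) := by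
  refine ⟨fun {G} => ?_⟩
  let c := colimit.cocone (G ⋙ sheafToPresheaf L A)
  let hc : IsColimit c := colimit.isColimit _
  have hterm : ∀ W, (⊥ : Sieve W) ∈ L W →
      Subsingleton (ToType (c.pt.obj (op W))) ∧ Nonempty (ToType (c.pt.obj (op W))) :=
    fun W hW => subsingleton_of_isTerminal (hK _ _
      (isColimitOfPreserves ((evaluation Dᵒᵖ A).obj (op W)) hc)
      (fun k => ⟨Sheaf.isTerminalOfBotCover (G.obj k) W hW⟩)).some
  let S : Sheaf L A := (presheafToSheaf L A).obj c.pt
  have hterm' : ∀ W, (⊥ : Sieve W) ∈ L W →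
      Subsingleton (ToType (S.obj.obj (op W))) :=
    fun W hW => (subsingleton_of_isTerminal (Sheaf.isTerminalOfBotCover S W hW)).1
  let θ : F.op ⋙ c.pt ⟶ F.op ⋙ S.obj := Functor.whiskerLeft F.op (toSheafify L c.pt)
  have : Presheaf.IsLocallyInjective J θ :=
    isLocallyInjective_whisker F hF (toSheafify L c.pt) fun W hW => (hterm W hW).1
  have : Presheaf.IsLocallySurjective J θ :=
    isLocallySurjective_whisker F hF (toSheafify L c.pt) (fun W hW => (hterm W hW).2) hterm'
  have hW : J.W θ := J.W_of_isLocallyBijective θ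
  rw [GrothendieckTopology.W_iff] at hW
  refine preservesColimit_of_preserves_colimit_cocone (Sheaf.isColimitSheafifyCocone c hc) ?_
  let G' := G ⋙ F.sheafPushforwardContinuous A J L
  let c' : Cocone (G' ⋙ sheafToPresheaf J A) :=
    ((Functor.whiskeringLeft Cᵒᵖ Dᵒᵖ A).obj F.op).mapCocone c
  let hc' : IsColimit c' := isColimitOfPreserves _ hc
  let φ : (Sheaf.sheafifyCocone c').pt ⟶
      ((F.sheafPushforwardContinuous A J L).mapCocone (Sheaf.sheafifyCocone c)).pt :=
    (presheafToSheaf J A).map θ ≫
      (sheafificationAdjunction J A).counit.app ((F.sheafPushforwardContinuous A J L).obj S)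
  have : IsIso φ := IsIso.comp_isIso' hW
    ((NatTrans.isIso_iff_isIso_app _).1 inferInstance _)
  refine IsColimit.ofIsoColimit (Sheaf.isColimitSheafifyCocone c' hc')
    (Cocone.ext (asIso φ) fun k => ?_)
  apply Sheaf.hom_ext
  change ((Sheaf.sheafifyCocone c').ι.app k).hom ≫
    (sheafifyMap J θ ≫ ((sheafificationAdjunction J A).counit.app
      ((F.sheafPushforwardContinuous A J L).obj S)).hom) =
    Functor.whiskerLeft F.op ((Sheaf.sheafifyCocone c).ι.app k).hom
  have e : toSheafify J (F.op ⋙ c.pt) ≫ sheafifyMap J θ ≫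
      ((sheafificationAdjunction J A).counit.app
        ((F.sheafPushforwardContinuous A J L).obj S)).hom = θ := by
    refine ((Category.assoc _ _ _).symm.trans
      ((congrArg (· ≫ _) (toSheafify_naturality J θ).symm).trans (Category.assoc _ _ _))).trans ?_
    refine (congrArg (θ ≫ ·) ?_).trans (Category.comp_id θ)
    erw [sheafificationAdjunction_counit_app_val, toSheafify_sheafifyLift]
    rfl
  rw [Sheaf.sheafifyCocone_ι_app_val]
  refine (Category.assoc _ _ _).trans ((congrArg (c'.ι.app k ≫ ·) e).trans ?_)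
  rw [Sheaf.sheafifyCocone_ι_app_val]
  rfl

/-- In a connected shape a colimit of terminal objects is terminal. -/
theorem isTerminal_of_connected {K : Type uK} [SmallCategory K] [IsConnected K]
    {A : Type uA} [Category.{vA} A] (G : K ⥤ A) (c : Cocone G) (hc : IsColimit c)
    (h : ∀ k, Nonempty (IsTerminal (G.obj k))) : Nonempty (IsTerminal c.pt) := by
  obtain ⟨k₀⟩ := (inferInstance : Nonempty K)
  let e : G ≅ (Functor.const K).obj (G.obj k₀) :=
    NatIso.ofComponents (fun k => (h k).some.uniqueUpToIso (h k₀).some) fun _ =>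
      (h k₀).some.hom_ext _ _
  exact ⟨IsTerminal.ofIso (h k₀).some
    (IsColimit.coconePointsIsoOfNatIso (isColimitConstCocone K (G.obj k₀)) hc e.symm)⟩

/-- A colimit of zero objects is terminal. -/
theorem isTerminal_of_hasZero {K : Type uK} [Category.{vK} K] {A : Type uA} [Category.{vA} A]
    [HasZeroMorphisms A] (G : K ⥤ A) (c : Cocone G) (hc : IsColimit c)
    (h : ∀ k, Nonempty (IsTerminal (G.obj k))) : Nonempty (IsTerminal c.pt) := by
  have h0 : 𝟙 c.pt = 0 := hc.hom_ext fun k => by
    have e : 𝟙 (G.obj k) = 0 := (h k).some.hom_ext _ _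
    rw [Category.comp_id, comp_zero, ← Category.id_comp (c.ι.app k), e, zero_comp]
  exact ⟨((IsZero.iff_id_eq_zero _).2 h0).isTerminal⟩

end Groth.Agent.Lib.AlmostCocont.Basic
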